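import Groth.Agent.PtNormal.Ring
import Groth.Agent.SectionExt.Normal
import Groth.Agent.DvrDom.Scheme
import Groth.Agent.SNPtFun.Basic

/-!
# Functions varying along discrete valuation rings on a normal ring
-/

noncomputable section

set_option autoImplicit false
set_option linter.style.haveILetI false
set_option backward.isDefEq.respectTransparency false
set_option backward.isDefEq.respectTransparency.types false

universe u

open CategoryTheory AlgebraicGeometry W4c1hilbchowinc

namespace Groth.Agent.PtNormal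

section Formal

variable {X Y Z : Scheme.{u}}

theorem pullback_ofSection (g : Y ⟶ X) (a : Γ(X, ⊤)) :
    (PtFun.ofSection X a).pullback g = PtFun.ofSection Y (g.appTop a) :=
  funext fun y => Scheme.Γevaluation_naturality_apply g y a

theorem pullback_pullback (j : Z ⟶ Y) (g : Y ⟶ X) (f : PtFun X) :
    (f.pullback g).pullback j = f.pullback (j ≫ g) := funext fun z =>
  congrArg (fun φ : X.residueField (g (j z)) ⟶ Z.residueField z => φ (f (g (j z))))
    (Scheme.residueFieldMap_comp j g z).symm

/-- A relation of values pulled back along a morphism hits the relation itself. -/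
theorem eq_of_pullback (g : Y ⟶ X) (y : Y) {v w : X.residueField (g y)}
    (h : g.residueFieldMap y v = g.residueFieldMap y w) : v = w :=
  (g.residueFieldMap y).hom.injective h

end Formal

variable (A : Type u) [CommRing A]

theorem appTop_ΓSpecIso {B : Type u} [CommRing B] (φ : A →+* B) (a : A) :
    (Spec.map (CommRingCat.ofHom φ)).appTop ((Scheme.ΓSpecIso (CommRingCat.of A)).inv a) =
      (Scheme.ΓSpecIso (CommRingCat.of B)).inv (φ a) :=
  (DFunLike.congr_fun (congrArg CommRingCat.Hom.hom (Scheme.ΓSpecIso_inv_naturality (CommRingCat.ofHom φ))) a).symm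

theorem eval_bijective (L : Type u) [Field L] : Function.Bijective fun z : L =>
    (Spec (CommRingCat.of L)).Γevaluation (IsLocalRing.closedPoint L) ((Scheme.ΓSpecIso (CommRingCat.of L)).inv z) := by
  refine ⟨(((Spec (CommRingCat.of L)).Γevaluation (IsLocalRing.closedPoint L)).hom.comp
    (Scheme.ΓSpecIso (CommRingCat.of L)).inv.hom).injective, fun v => ?_⟩
  obtain ⟨w, rfl⟩ := (Spec (CommRingCat.of L)).residue_surjective (IsLocalRing.closedPoint L) v
  obtain ⟨z, rfl⟩ := (stalkClosedPointIso (CommRingCat.of L)).commRingCatIsoToRingEquiv.symm.surjective w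
  refine ⟨z, ?_⟩
  have h : (Scheme.ΓSpecIso (CommRingCat.of L)).inv ≫ (Spec (CommRingCat.of L)).presheaf.germ ⊤
      (IsLocalRing.closedPoint L) trivial = (stalkClosedPointIso (CommRingCat.of L)).inv := by
    rw [Iso.inv_comp_eq, ← germ_stalkClosedPointIso_hom, Category.assoc, Iso.hom_inv_id, Category.comp_id]
  exact congrArg ((Spec (CommRingCat.of L)).residue (IsLocalRing.closedPoint L)) (DFunLike.congr_fun (congrArg CommRingCat.Hom.hom h) z)

theorem section_eq_of_generic {A' : Scheme.{u}} {K : Type u} [Field K] (R : ValuationSubring K)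
    (g : Spec (CommRingCat.of R) ⟶ A') (f : PtFun A') (a : Γ(A', ⊤)) (r : Γ(Spec (CommRingCat.of R), ⊤))
    (hr : PtFun.ofSection _ r = f.pullback g) (x : A')
    (hx : (Spec.map (CommRingCat.ofHom R.subtype) ≫ g) (IsLocalRing.closedPoint K) = x)
    (ha : A'.Γevaluation x a = f x) : r = g.appTop a := by
  let j : Spec (CommRingCat.of K) ⟶ Spec (CommRingCat.of R) := Spec.map (CommRingCat.ofHom R.subtype)
  let o : Spec (CommRingCat.of K) := IsLocalRing.closedPoint K
  have hev : ∀ u v : Γ(Spec (CommRingCat.of K), ⊤),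
      (Spec (CommRingCat.of K)).Γevaluation o u = (Spec (CommRingCat.of K)).Γevaluation o v → u = v := by
    intro u v huv
    obtain ⟨u, rfl⟩ := (Scheme.ΓSpecIso (CommRingCat.of K)).commRingCatIsoToRingEquiv.symm.surjective u
    obtain ⟨v, rfl⟩ := (Scheme.ΓSpecIso (CommRingCat.of K)).commRingCatIsoToRingEquiv.symm.surjective v
    exact congrArg _ ((eval_bijective K).1 huv)
  have hj : ∀ u v : Γ(Spec (CommRingCat.of R), ⊤), j.appTop u = j.appTop v → u = v := by
    intro u v huv
    obtain ⟨u, rfl⟩ := (Scheme.ΓSpecIso (CommRingCat.of R)).commRingCatIsoToRingEquiv.symm.surjective u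
    obtain ⟨v, rfl⟩ := (Scheme.ΓSpecIso (CommRingCat.of R)).commRingCatIsoToRingEquiv.symm.surjective v
    have := ((appTop_ΓSpecIso R R.subtype u).symm.trans huv).trans (appTop_ΓSpecIso R R.subtype v)
    exact congrArg _ (Subtype.ext ((Scheme.ΓSpecIso (CommRingCat.of K)).commRingCatIsoToRingEquiv.symm.injective this))
  refine hj _ _ (hev _ _ ?_)
  have h1 := congrFun (congrArg (PtFun.pullback j) hr) o
  rw [pullback_ofSection, pullback_pullback] at h1
  refine h1.trans ?_
  change (f.pullback (j ≫ g)) o = (Spec (CommRingCat.of K)).Γevaluation o ((j ≫ g).appTop a)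
  subst hx
  rw [← Scheme.Γevaluation_naturality_apply]
  exact congrArg ((j ≫ g).residueFieldMap o) ha.symm

variable [IsReduced A] [IsNoetherianRing A] [IsIntegrallyClosed A]

theorem existsUnique_section (f : PtFun (Spec (CommRingCat.of A))) (hf : f.VariesAlongDVR) :
    ∃! a : Γ(Spec (CommRingCat.of A), ⊤), PtFun.ofSection (Spec (CommRingCat.of A)) a = f := by
  classical
  let ev : ∀ x : Spec (CommRingCat.of A), A →+* (Spec (CommRingCat.of A)).residueField x := fun x =>
    ((Spec (CommRingCat.of A)).Γevaluation x).hom.comp (Scheme.ΓSpecIso (CommRingCat.of A)).inv.hom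
  let I : Ideal A :=
    { carrier := {b | ∃ a : A, ∀ x : Spec (CommRingCat.of A), x.asIdeal ∈ minimalPrimes A → ev x a = ev x b * f x}
      add_mem' := by
        rintro b b' ⟨a, ha⟩ ⟨a', ha'⟩
        exact ⟨a + a', fun x hx => by rw [map_add, map_add, ha x hx, ha' x hx, add_mul]⟩
      zero_mem' := ⟨0, fun x _ => by rw [map_zero, zero_mul]⟩
      smul_mem' := by
        rintro c b ⟨a, ha⟩
        exact ⟨c * a, fun x hx => by rw [smul_eq_mul, map_mul, map_mul, ha x hx, mul_assoc]⟩ }
  have hI : I = ⊤ := by
    by_contra hne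
    obtain ⟨p, hp, hle⟩ := Ideal.exists_le_maximal I hne
    haveI := hp.isPrime
    haveI := isDomain_atPrime p
    haveI := isIntegrallyClosed_atPrime p
    let Ap := Localization.AtPrime p
    let L := FractionRing Ap
    let h : Spec (CommRingCat.of L) ⟶ Spec (CommRingCat.of A) := Spec.map (CommRingCat.ofHom (algebraMap A L))
    let o : Spec (CommRingCat.of L) := IsLocalRing.closedPoint L
    obtain ⟨z, hz⟩ : ∃ z : L, (Spec (CommRingCat.of L)).Γevaluation o
        ((Scheme.ΓSpecIso (CommRingCat.of L)).inv z) = (f.pullback h) o := by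
      exact (eval_bijective L).2 _
    obtain ⟨x, hx⟩ : z ∈ (algebraMap Ap L).range := SectionExt.mem_range_of_forall_dvr Ap L z fun R hR hA _ => by
      haveI := hR
      let φ : A →+* R := ((algebraMap Ap L).comp (algebraMap A Ap)).codRestrict R.toSubring fun a => hA _
      let g : Spec (CommRingCat.of R) ⟶ Spec (CommRingCat.of A) := Spec.map (CommRingCat.ofHom φ)
      let j : Spec (CommRingCat.of L) ⟶ Spec (CommRingCat.of R) := Spec.map (CommRingCat.ofHom R.subtype)
      have hjg : h = j ≫ g := by
        rw [← Spec.map_comp, ← CommRingCat.ofHom_comp]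
        congr 2
      obtain ⟨r, hr⟩ := hf R g
      obtain ⟨r, rfl⟩ := (Scheme.ΓSpecIso (CommRingCat.of R)).commRingCatIsoToRingEquiv.symm.surjective r
      have h2 := congrFun (congrArg (PtFun.pullback j) hr) o
      rw [pullback_ofSection, pullback_pullback, ← hjg, ← hz] at h2
      have h3 : (Spec (CommRingCat.of L)).Γevaluation o ((Scheme.ΓSpecIso (CommRingCat.of L)).inv (r : L)) =
          (Spec (CommRingCat.of L)).Γevaluation o ((Scheme.ΓSpecIso (CommRingCat.of L)).inv z) := by
        rw [← h2]
        show _ = (Spec (CommRingCat.of L)).Γevaluation o (j.appTop ((Scheme.ΓSpecIso (CommRingCat.of R)).inv r))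
        rw [appTop_ΓSpecIso]
        rfl
      rw [← (eval_bijective L).1 h3]
      exact r.2
    obtain ⟨⟨a, t⟩, hat⟩ := IsLocalization.surj p.primeCompl x
    obtain ⟨η, hη, hηp⟩ := Ideal.exists_minimalPrimes_le (bot_le : ⊥ ≤ p)
    have hho : (h o).asIdeal = η := by
      show (IsLocalRing.maximalIdeal L).comap (algebraMap A L) = η
      rw [IsLocalRing.maximalIdeal_eq_bot, ← RingHom.ker_eq_comap_bot, IsScalarTower.algebraMap_eq A Ap L,
        RingHom.ker_comp_of_injective _ (IsFractionRing.injective Ap L), ker_eq hη hηp]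
    obtain ⟨t', ht', ht''⟩ := exists_mem_others hη ‹p.IsPrime› fun η' h' hle' => unique_minimal hη h' hηp hle'
    refine Submonoid.mul_mem p.primeCompl t.2 ht' (hle ⟨a * t', fun y hy => ?_⟩)
    rw [map_mul, map_mul]
    by_cases e : y.asIdeal = η
    · obtain rfl : y = h o := PrimeSpectrum.ext (e.trans hho.symm)
      rw [mul_right_comm]
      congr 1
      refine eq_of_pullback h o ?_
      rw [map_mul]
      show h.residueFieldMap o ((Spec (CommRingCat.of A)).Γevaluation (h o) _) =
        h.residueFieldMap o ((Spec (CommRingCat.of A)).Γevaluation (h o) _) * (f.pullback h) o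
      rw [Scheme.Γevaluation_naturality_apply, Scheme.Γevaluation_naturality_apply, ← hz, ← map_mul,
        appTop_ΓSpecIso, appTop_ΓSpecIso, ← map_mul, IsScalarTower.algebraMap_apply A Ap L,
        IsScalarTower.algebraMap_apply A Ap L, ← hx, ← map_mul, mul_comm, hat]
    · have h0 : ev y t' = 0 := by
        have hm : t' ∈ y.asIdeal := ht'' _ hy e
        show (Spec (CommRingCat.of A)).Γevaluation y _ = 0
        rw [Scheme.evaluation_eq_zero_iff_notMem_basicOpen, basicOpen_eq_of_affine]
        exact not_not.2 hm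
      rw [h0, mul_zero, mul_zero, zero_mul]
  obtain ⟨a, ha⟩ := (Ideal.eq_top_iff_one I).1 hI
  suffices hval : ∀ y, ev y a = f y by
    exact ⟨(Scheme.ΓSpecIso (CommRingCat.of A)).inv a, funext hval,
      fun b hb => SNPtFun.section_ext fun y => (congrFun hb y).trans (hval y).symm⟩
  intro y
  obtain ⟨η, hη, hηy⟩ := Ideal.exists_minimalPrimes_le (bot_le : ⊥ ≤ y.asIdeal)
  let x : Spec (CommRingCat.of A) := ⟨η, hη.1.1⟩
  have hx : ev x a = f x := by rw [ha x hη, map_one, one_mul]
  by_cases e : y = x
  · subst e; exact hx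
  have hsp : (𝟙 (Spec (CommRingCat.of A)) : _ ⟶ _) x ⤳ y := (PrimeSpectrum.le_iff_specializes x y).1 hηy
  obtain ⟨R, g, hR, hgy, hgen⟩ := DvrDom.exists_dvr_through (𝟙 (Spec (CommRingCat.of A))) x y hsp e
  haveI := hR
  obtain ⟨r, hr⟩ := hf R g
  have hkey : r = g.appTop ((Scheme.ΓSpecIso (CommRingCat.of A)).inv a) :=
    section_eq_of_generic R g f _ r hr x (by
      rw [hgen, Category.comp_id]
      exact Scheme.fromSpecResidueField_apply _ _) hx
  have h3 := congrFun hr (IsLocalRing.closedPoint R)
  rw [hkey] at h3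
  subst hgy
  refine (eq_of_pullback g _ ?_)
  exact (Scheme.Γevaluation_naturality_apply g _ _).trans h3

end Groth.Agent.PtNormal
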