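import Mathlib

/-!
# Reduced Noetherian rings integrally closed in their total ring of fractions
-/

noncomputable section

set_option autoImplicit false
set_option linter.style.haveILetI false

universe u

open IsLocalRing

namespace Groth.Agent.PtNormal

variable {A : Type u} [CommRing A] [IsReduced A] [IsNoetherianRing A]

theorem eq_zero_of_mem_minimalPrimes {a : A} (h : ∀ η ∈ minimalPrimes A, a ∈ η) : a = 0 := by
  have h1 : a ∈ sInf (minimalPrimes A) := Submodule.mem_sInf.2 h
  rw [show sInf (minimalPrimes A) = (⊥ : Ideal A).radical from Ideal.sInf_minimalPrimes] at h1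
  rw [show (⊥ : Ideal A).radical = ⊥ from nilradical_eq_zero A] at h1
  exact h1

theorem mem_nonZeroDivisors_of_notMem {d : A} (h : ∀ η ∈ minimalPrimes A, d ∉ η) : d ∈ nonZeroDivisors A := by
  rw [mem_nonZeroDivisors_iff_right]
  intro x hx
  refine eq_zero_of_mem_minimalPrimes fun η hη => ?_
  exact ((hη.1.1).mem_or_mem (show x * d ∈ η from hx.symm ▸ η.zero_mem)).resolve_right (h η hη)

omit [IsReduced A] in
/-- An element in all minimal primes other than the given one. -/
theorem exists_mem_others {η p : Ideal A} (hη : η ∈ minimalPrimes A) (hp : p.IsPrime)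
    (h : ∀ η' ∈ minimalPrimes A, η' ≤ p → η' = η) :
    ∃ t, t ∉ p ∧ ∀ η' ∈ minimalPrimes A, η' ≠ η → t ∈ η' := by
  classical
  have hfin := minimalPrimes.finite_of_isNoetherianRing A
  let s := (hfin.toFinset).filter (· ≠ η)
  by_contra hc
  push Not at hc
  have hle : s.inf id ≤ p := fun t ht => by
    by_contra htp
    obtain ⟨η', h1, h2, h3⟩ := hc t htp
    exact h3 (Submodule.mem_finsetInf.1 ht η' (Finset.mem_filter.2 ⟨hfin.mem_toFinset.2 h1, h2⟩))
  obtain ⟨η', hη', hle'⟩ := (Ideal.IsPrime.inf_le' hp).1 hle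
  obtain ⟨h1, h2⟩ := Finset.mem_filter.1 hη'
  exact h2 (h η' (hfin.mem_toFinset.1 h1) hle')

variable [IsIntegrallyClosed A]

/-- The idempotent of a minimal prime. -/
theorem exists_idem {η : Ideal A} (hη : η ∈ minimalPrimes A) :
    ∃ c : A, c * c = c ∧ 1 - c ∈ η ∧ ∀ η' ∈ minimalPrimes A, η' ≠ η → c ∈ η' := by
  classical
  haveI := hη.1.1
  obtain ⟨s, hs, hs'⟩ := exists_mem_others hη hη.1.1 fun η' h' hle => le_antisymm hle (hη.2 ⟨h'.1.1, bot_le⟩ hle)
  have hfin := minimalPrimes.finite_of_isNoetherianRing A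
  let S := (hfin.toFinset).filter (· ≠ η)
  obtain ⟨t, htη, ht⟩ : ∃ t ∈ η, ∀ η' ∈ minimalPrimes A, η' ≠ η → t ∉ η' := by
    by_contra hc
    push Not at hc
    obtain ⟨η', hη', hle⟩ := (Ideal.subset_union_prime (s := S) (f := id) ⊥ ⊥ fun i hi _ _ =>
      (hfin.mem_toFinset.1 (Finset.mem_filter.1 hi).1).1.1).1 (show (η : Set A) ⊆ _ from fun t ht => by
        obtain ⟨η', h1, h2, h3⟩ := hc t ht
        exact Set.mem_iUnion₂.2 ⟨η', Finset.mem_filter.2 ⟨hfin.mem_toFinset.2 h1, h2⟩, h3⟩)
    obtain ⟨h1, h2⟩ := Finset.mem_filter.1 hη'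
    exact h2 (le_antisymm ((hfin.mem_toFinset.1 h1).2 ⟨hη.1.1, bot_le⟩ hle) hle)
  have hd : s + t ∈ nonZeroDivisors A := mem_nonZeroDivisors_of_notMem fun η' h' hm => by
    by_cases e : η' = η
    · subst e; exact hs ((Submodule.add_mem_iff_left _ htη).1 hm)
    · exact ht η' h' e ((Submodule.add_mem_iff_right _ (hs' η' h' e)).1 hm)
  have hst : s * (s + t) = s * s := by
    have : s * t = 0 := eq_zero_of_mem_minimalPrimes fun η' h' => by
      by_cases e : η' = η
      · subst e; exact Ideal.mul_mem_left _ _ htη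
      · exact Ideal.mul_mem_right _ _ (hs' η' h' e)
    linear_combination this
  let q : FractionRing A := IsLocalization.mk' (FractionRing A) s ⟨_, hd⟩
  have hq : q * q = q := by
    rw [← IsLocalization.mk'_mul, IsLocalization.mk'_eq_iff_eq]
    congr 1
    simp only [Submonoid.coe_mul]
    linear_combination -(s + t) * hst
  obtain ⟨c, hc⟩ := IsIntegrallyClosed.isIntegral_iff.1 (show IsIntegral A q from
    ⟨Polynomial.X ^ 2 - Polynomial.X, Polynomial.monic_X_pow_sub (Polynomial.degree_X_le.trans_lt (by exact_mod_cast one_lt_two)), by simp [pow_two, hq]⟩)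
  have hcd : c * (s + t) = s := by
    refine IsFractionRing.injective A (FractionRing A) ?_
    rw [map_mul, hc]
    exact IsLocalization.mk'_spec _ _ _
  have hcc : c * c = c := IsFractionRing.injective A (FractionRing A) (by rw [map_mul, hc, hq])
  have hcη : c ∉ η := fun h => hs (hcd ▸ Ideal.mul_mem_right _ _ h)
  refine ⟨c, hcc, ((hη.1.1).mem_or_mem (show c * (1 - c) ∈ η from ?_)).resolve_left hcη, fun η' h' e => ?_⟩
  · rw [mul_sub, hcc, mul_one, sub_self]; exact η.zero_mem
  · refine ((h'.1.1).mem_or_mem (show c * (s + t) ∈ η' from hcd.symm ▸ hs' η' h' e)).resolve_right fun hm => ?_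
    exact ht η' h' e ((Submodule.add_mem_iff_right _ (hs' η' h' e)).1 hm)

theorem unique_minimal {p : Ideal A} [p.IsPrime] {η η' : Ideal A} (h : η ∈ minimalPrimes A)
    (h' : η' ∈ minimalPrimes A) (hle : η ≤ p) (hle' : η' ≤ p) : η' = η := by
  by_contra e
  obtain ⟨c, -, h1, h2⟩ := exists_idem h
  exact Ideal.IsPrime.ne_top ‹_› ((Ideal.eq_top_iff_one p).2 (by simpa using p.add_mem (hle h1) (hle' (h2 η' h' e))))

/-- The kernel of `A → A_p` is the minimal prime below `p`. -/
theorem ker_eq {p η : Ideal A} [p.IsPrime] (h : η ∈ minimalPrimes A) (hle : η ≤ p) :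
    RingHom.ker (algebraMap A (Localization.AtPrime p)) = η := by
  haveI := h.1.1
  ext x
  rw [RingHom.mem_ker, IsLocalization.map_eq_zero_iff p.primeCompl]
  constructor
  · rintro ⟨u, hu⟩
    exact (h.1.1.mem_or_mem (show (u : A) * x ∈ η from hu.symm ▸ η.zero_mem)).resolve_left fun hm => u.2 (hle hm)
  · intro hx
    obtain ⟨t, ht, ht'⟩ := exists_mem_others h ‹p.IsPrime› fun η' h' hle' => unique_minimal h h' hle hle'
    refine ⟨⟨t, ht⟩, eq_zero_of_mem_minimalPrimes fun η' h' => ?_⟩
    by_cases e : η' = η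
    · subst e; exact Ideal.mul_mem_left _ _ hx
    · exact Ideal.mul_mem_right _ _ (ht' η' h' e)

theorem isDomain_atPrime (p : Ideal A) [p.IsPrime] : IsDomain (Localization.AtPrime p) := by
  obtain ⟨η, h, hle⟩ := Ideal.exists_minimalPrimes_le (bot_le : ⊥ ≤ p)
  have hk := ker_eq h hle
  haveI : NoZeroDivisors (Localization.AtPrime p) := ⟨fun {x y} hxy => by
    obtain ⟨⟨a, s⟩, rfl⟩ := IsLocalization.mk'_surjective p.primeCompl x
    obtain ⟨⟨b, t⟩, rfl⟩ := IsLocalization.mk'_surjective p.primeCompl y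
    rw [← IsLocalization.mk'_mul, IsLocalization.mk'_eq_zero_iff] at hxy
    obtain ⟨u, hu⟩ := hxy
    have hm : a * b ∈ η :=
      ((h.1.1).mem_or_mem (show (u : A) * (a * b) ∈ η from hu.symm ▸ η.zero_mem)).resolve_left fun hm => u.2 (hle hm)
    rcases h.1.1.mem_or_mem hm with ha | hb
    · left
      rw [← hk, RingHom.mem_ker] at ha
      show IsLocalization.mk' _ a s = 0
      rw [IsLocalization.mk'_eq_mul_mk'_one, ha, zero_mul]
    · right
      rw [← hk, RingHom.mem_ker] at hb
      show IsLocalization.mk' _ b t = 0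
      rw [IsLocalization.mk'_eq_mul_mk'_one, hb, zero_mul]⟩
  exact NoZeroDivisors.to_isDomain _

theorem isIntegrallyClosed_atPrime (p : Ideal A) [p.IsPrime] [IsDomain (Localization.AtPrime p)] :
    IsIntegrallyClosed (Localization.AtPrime p) := by
  obtain ⟨η, h, hle⟩ := Ideal.exists_minimalPrimes_le (bot_le : ⊥ ≤ p)
  have hk := ker_eq h hle
  let L := FractionRing (Localization.AtPrime p)
  have hker : ∀ x : A, algebraMap A L x = 0 ↔ x ∈ η := fun x => by
    rw [← hk, RingHom.mem_ker, IsScalarTower.algebraMap_apply A (Localization.AtPrime p) L]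
    exact map_eq_zero_iff _ (IsFractionRing.injective _ _)
  rw [isIntegrallyClosed_iff L]
  intro x hx
  obtain ⟨⟨m, hm⟩, hmx⟩ := IsIntegral.exists_multiple_integral_of_isLocalization p.primeCompl x hx
  have hm' : m • x = algebraMap A L m * x := Algebra.smul_def m x
  rw [Submonoid.smul_def] at hmx
  simp only at hmx
  rw [hm'] at hmx
  obtain ⟨P, hP, hPx⟩ := hmx
  obtain ⟨a, b, hb, hab⟩ : ∃ a b : A, b ∉ η ∧ algebraMap A L m * x * algebraMap A L b = algebraMap A L a := by
    obtain ⟨⟨u, v⟩, huv⟩ := IsLocalization.surj (nonZeroDivisors (Localization.AtPrime p)) (algebraMap A L m * x)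
    obtain ⟨⟨a, s⟩, hs⟩ := IsLocalization.surj p.primeCompl u
    obtain ⟨⟨b, t⟩, ht⟩ := IsLocalization.surj p.primeCompl (v : Localization.AtPrime p)
    simp only at huv hs ht
    refine ⟨a * t, b * s, fun hmem => ?_, ?_⟩
    · rcases h.1.1.mem_or_mem hmem with h1 | h1
      · rw [← hk, RingHom.mem_ker, ← ht] at h1
        exact nonZeroDivisors.coe_ne_zero v
          ((mul_eq_zero.1 h1).resolve_right (IsLocalization.map_units (Localization.AtPrime p) t).ne_zero)
      · exact s.2 (hle h1)
    · simp only [map_mul, IsScalarTower.algebraMap_apply A (Localization.AtPrime p) L, ← hs, ← ht, ← huv]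
      ring
  haveI := h.1.1
  obtain ⟨c, hcc, hc1, hc2⟩ := exists_idem h
  have hd : c * b + (1 - c) ∈ nonZeroDivisors A := mem_nonZeroDivisors_of_notMem fun η' h' hmem => by
    by_cases e : η' = η
    · subst e
      exact hb (h'.1.1.mem_or_mem ((Submodule.add_mem_iff_left _ hc1).1 hmem) |>.resolve_left fun hc =>
        h'.1.1.ne_top ((Ideal.eq_top_iff_one _).2 (by simpa using η'.add_mem hc hc1)))
    · have hm2 : 1 - c ∈ η' := (Submodule.add_mem_iff_right _ (η'.mul_mem_right b (hc2 η' h' e))).1 hmem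
      exact h'.1.1.ne_top ((Ideal.eq_top_iff_one _).2 (by simpa using η'.add_mem (hc2 η' h' e) hm2))
  let K := FractionRing A
  let q : K := IsLocalization.mk' K (c * a) ⟨_, hd⟩
  let n := P.natDegree
  have hrel : (P.scaleRoots b).eval a ∈ η := by
    rw [← hker]
    have h0 := Polynomial.scaleRoots_eval₂_eq_zero (algebraMap A L) (r := algebraMap A L m * x) (s := b) hPx
    rw [mul_comm, hab] at h0
    rwa [← Polynomial.eval₂_at_apply]
  have hqd : q * algebraMap A K (c * b + (1 - c)) = algebraMap A K (c * a) := IsLocalization.mk'_spec _ _ _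
  have hint : IsIntegral A q := by
    refine ⟨Polynomial.X * P, Polynomial.monic_X.mul hP, ?_⟩
    let J : Ideal K := Ideal.span {1 - algebraMap A K c}
    let ψ : K →+* K ⧸ J := Ideal.Quotient.mk J
    have hψc : ψ (algebraMap A K c) = 1 := by
      rw [← map_one ψ, Ideal.Quotient.eq]
      exact Ideal.mem_span_singleton'.2 ⟨-1, by ring⟩
    have hqb : ψ (algebraMap A K b) * ψ q = ψ (algebraMap A K a) := by
      have h1 := congrArg ψ hqd
      simp only [map_mul, map_add, map_sub, map_one, hψc, one_mul, sub_self, add_zero] at h1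
      rw [mul_comm, h1]
    have hbu : IsUnit (ψ (algebraMap A K b)) := by
      have h1 := ((IsLocalization.map_units K (⟨_, hd⟩ : nonZeroDivisors A))).map ψ
      simpa only [map_mul, map_add, map_sub, map_one, hψc, one_mul, sub_self, add_zero] using h1
    have hzero : ψ (algebraMap A K ((P.scaleRoots b).eval a)) = 0 := by
      have h1 : c * (P.scaleRoots b).eval a = 0 := eq_zero_of_mem_minimalPrimes fun η' h' => by
        by_cases e : η' = η
        · subst e; exact Ideal.mul_mem_left _ _ hrel
        · exact Ideal.mul_mem_right _ _ (hc2 η' h' e)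
      have h2 := congrArg (fun y => ψ (algebraMap A K y)) h1
      simpa only [map_mul, map_zero, hψc, one_mul] using h2
    have hP0 : P.eval₂ (ψ.comp (algebraMap A K)) (ψ q) = 0 := by
      have h1 := Polynomial.scaleRoots_eval₂_mul (ψ.comp (algebraMap A K)) (p := P) (ψ q) b
      simp only [RingHom.comp_apply] at h1
      rw [hqb] at h1
      rw [show ψ (algebraMap A K a) = (ψ.comp (algebraMap A K)) a from rfl, Polynomial.eval₂_at_apply,
        RingHom.comp_apply, hzero] at h1
      exact (hbu.pow P.natDegree).mul_right_eq_zero.1 h1.symm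
    have hmem : P.eval₂ (algebraMap A K) q ∈ J := by
      rw [← Ideal.Quotient.eq_zero_iff_mem, ← Polynomial.hom_eval₂] at *
      exact hP0
    obtain ⟨w, hw⟩ := Ideal.mem_span_singleton'.1 hmem
    have hq1 : q * (1 - algebraMap A K c) = 0 := by
      refine (IsLocalization.map_units K (⟨_, hd⟩ : nonZeroDivisors A)).mul_left_eq_zero.1 ?_
      show q * (1 - algebraMap A K c) * algebraMap A K (c * b + (1 - c)) = 0
      rw [mul_right_comm, hqd, map_mul]
      have h1 : algebraMap A K c * algebraMap A K c = algebraMap A K c := by rw [← map_mul, hcc]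
      linear_combination (-algebraMap A K a) * h1
    rw [Polynomial.eval₂_mul, Polynomial.eval₂_X, ← hw, mul_left_comm, hq1, mul_zero]
  obtain ⟨z, hz⟩ := IsIntegrallyClosed.isIntegral_iff.1 hint
  have hz' : z * (c * b + (1 - c)) = c * a := by
    refine IsFractionRing.injective A K ?_
    rw [map_mul, hz]
    exact IsLocalization.mk'_spec _ _ _
  have hc : algebraMap A L c = 1 := by
    have := (hker (1 - c)).2 hc1
    rw [map_sub, map_one, sub_eq_zero] at this
    exact this.symm
  have h5 := congrArg (algebraMap A L) hz'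
  simp only [map_mul, map_add, map_sub, map_one, hc, one_mul, sub_self, add_zero] at h5
  have hbne : algebraMap A L b ≠ 0 := fun h0 => hb ((hker b).1 h0)
  have h6 : algebraMap A L m * x = algebraMap A L z := mul_right_cancel₀ hbne (hab.trans h5.symm)
  obtain ⟨w, hw⟩ := (IsLocalization.map_units (Localization.AtPrime p) (⟨m, hm⟩ : p.primeCompl)).exists_left_inv
  refine ⟨w * algebraMap A _ z, ?_⟩
  rw [map_mul, ← IsScalarTower.algebraMap_apply, ← h6, ← mul_assoc,
    IsScalarTower.algebraMap_apply A (Localization.AtPrime p) L, ← map_mul, hw, map_one, one_mul]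

end Groth.Agent.PtNormal
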